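import Groth.Agent.FibCrit57.Isogeny
import Groth.Agent.SpPts86.LocPMore
import Mathlib.AlgebraicGeometry.Morphisms.FlatRank

/-!
Morphisms of proper flat schemes over a base, from the fibres.
-/

set_option autoImplicit false
set_option backward.isDefEq.respectTransparency.types false
set_option linter.style.haveILetI false
universe u

open CategoryTheory CategoryTheory.Limits MonoidalCategory CartesianMonoidalCategory MonObj GrpObj AlgebraicGeometry

noncomputable section

namespace Groth.Agent.IsogFib7

variable {S : Scheme.{u}} {G H : Over S} (f : G ⟶ H)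

/-- A morphism to a separated scheme from a proper flat one is finite, flat and surjective if it is so on fibres. -/
theorem isFinite_flat_surjective_of_fibres [IsProper G.hom] [Flat G.hom] [LocallyOfFinitePresentation G.hom]
    [IsSeparated H.hom] [LocallyOfFinitePresentation H.hom]
    (h : ∀ s : S, IsFinite ((Over.pullback (S.fromSpecResidueField s)).map f).left ∧
      Flat ((Over.pullback (S.fromSpecResidueField s)).map f).left ∧
      Surjective ((Over.pullback (S.fromSpecResidueField s)).map f).left) :
    IsFinite f.left ∧ Flat f.left ∧ Surjective f.left := by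
  haveI : LocallyOfFinitePresentation (f.left ≫ H.hom) := by rw [Over.w]; infer_instance
  haveI : LocallyOfFiniteType f.left :=
    haveI : LocallyOfFiniteType (f.left ≫ H.hom) := by rw [Over.w]; infer_instance
    locallyOfFiniteType_of_comp f.left H.hom
  haveI : LocallyOfFinitePresentation f.left := SpPts86.lfp_of_comp f.left H.hom
  haveI : Flat (f.left ≫ H.hom) := by rw [Over.w]; infer_instance
  haveI : IsProper (f.left ≫ H.hom) := by rw [Over.w]; infer_instance
  haveI : IsProper f.left := IsProper.of_comp f.left H.hom
  haveI : MorphismProperty.RespectsIso (@Flat : MorphismProperty Scheme.{u}) :=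
    MorphismProperty.IsStableUnderBaseChange.respectsIso
  haveI : Flat f.left := FibCrit57.flat_of_fibrewise f.left H.hom fun s => by
    haveI := (h s).2.1
    exact (FibCrit57.fibre_prop_iff (@Flat : MorphismProperty Scheme.{u}) f s).1 inferInstance
  have hfin : ∀ s : S, IsFinite (pullback.snd f.left (H.hom.fiberι s)) ∧
      Surjective (pullback.snd f.left (H.hom.fiberι s)) := fun s =>
    ⟨(FibCrit57.fibre_prop_iff @IsFinite f s).1 (h s).1, (FibCrit57.fibre_prop_iff @Surjective f s).1 (h s).2.2⟩
  haveI : LocallyQuasiFinite f.left := by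
    refine LocallyQuasiFinite.of_finite_preimage_singleton _ fun y => ?_
    obtain ⟨y', hy'⟩ : y ∈ Set.range (H.hom.fiberι (H.hom y)) := by rw [Scheme.Hom.range_fiberι]; rfl
    haveI := (hfin (H.hom y)).1
    refine ((IsFinite.finite_preimage_singleton (pullback.snd f.left (H.hom.fiberι (H.hom y))) y').image
      (pullback.fst f.left (H.hom.fiberι (H.hom y)))).subset fun x hx => ?_
    obtain ⟨z, hz1, hz2⟩ := Scheme.exists_preimage_of_isPullback
      (IsPullback.of_hasPullback f.left (H.hom.fiberι (H.hom y))) x y' (hx.trans hy'.symm)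
    exact ⟨z, hz2, hz1⟩
  refine ⟨IsFinite.of_isProper_of_locallyQuasiFinite f.left, inferInstance, ⟨fun y => ?_⟩⟩
  obtain ⟨y', hy'⟩ : y ∈ Set.range (H.hom.fiberι (H.hom y)) := by rw [Scheme.Hom.range_fiberι]; rfl
  haveI := (hfin (H.hom y)).2
  obtain ⟨z, hz⟩ := (pullback.snd f.left (H.hom.fiberι (H.hom y))).surjective y'
  exact ⟨pullback.fst f.left (H.hom.fiberι (H.hom y)) z, by
    rw [← Scheme.Hom.comp_apply, pullback.condition, Scheme.Hom.comp_apply, hz, hy']⟩

/-- The rank of a finite flat morphism at a point is the rank on the fibre. -/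
theorem exists_finrank_eq [IsFinite f.left] [Flat f.left] (y : H.left) :
    ∃ y' : (FibCrit57.fibO (H.hom y) H).left,
      Scheme.Hom.finrank f.left y = Scheme.Hom.finrank ((Over.pullback (S.fromSpecResidueField (H.hom y))).map f).left y' := by
  obtain ⟨y', hy'⟩ : y ∈ Set.range (H.hom.fiberι (H.hom y)) := by rw [Scheme.Hom.range_fiberι]; rfl
  refine ⟨y', ?_⟩
  rw [Scheme.Hom.finrank_of_isPullback _ _ f.left _ (FibCrit57.isPullback_fibreMap f (H.hom y)) y']
  exact congrArg f.left.finrank hy'.symm

end Groth.Agent.IsogFib7
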