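import Groth.Agent.IsogFib7.Basic
import Groth.Agent.AbDeg57.FlatPow
import Groth.Agent.Alb96.GeomInt
import Groth.Agent.S7795

/-!
Multiplication by a positive integer on an abelian scheme is finite, flat and surjective.
-/

set_option autoImplicit false
set_option backward.isDefEq.respectTransparency.types false
set_option linter.style.haveILetI false
universe u
open CategoryTheory CategoryTheory.Limits MonoidalCategory CartesianMonoidalCategory MonObj GrpObj AlgebraicGeometry

namespace Groth.Agent.IsogFib7

theorem isFinite_flat_surjective_pow {S : Scheme.{u}} (X : Over S) [GrpObj X] [IsProper X.hom] [Flat X.hom]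
    [LocallyOfFinitePresentation X.hom] [GeometricallyReduced X.hom] [GeometricallyConnected X.hom]
    (n : ℕ) (hn : 1 ≤ n) :
    IsFinite (𝟙 X ^ n).left ∧ Flat (𝟙 X ^ n).left ∧ Surjective (𝟙 X ^ n).left := by
  haveI : Smooth X.hom := Groth.Agent.S7795.result X
  refine isFinite_flat_surjective_of_fibres (𝟙 X ^ n) fun s => ?_
  let G : Over (Spec (CommRingCat.of (S.residueField s))) :=
    (Over.pullback (S.fromSpecResidueField s)).obj X
  letI : GrpObj G := FibCrit57.grpFibO s X
  haveI : Smooth G.hom := inferInstanceAs (Smooth (pullback.snd _ _))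
  haveI : IsProper G.hom := inferInstanceAs (IsProper (pullback.snd _ _))
  haveI : GeometricallyReduced G.hom := inferInstanceAs (GeometricallyReduced (pullback.snd _ _))
  haveI : ConnectedSpace G.left := inferInstanceAs (ConnectedSpace (X.hom.fiber s))
  haveI : GeometricallyIntegral G.hom := Alb96.geometricallyIntegral_of_connectedSpace G
  have hmap : (Over.pullback (S.fromSpecResidueField s)).map (𝟙 X ^ n) = (𝟙 G ^ n : G ⟶ G) := by
    have := map_pow ((Over.pullback (S.fromSpecResidueField s)).homMonoidHom (X := X) (M := X)) (𝟙 X) n
    simpa using this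
  rw [hmap]
  exact ⟨AbDeg57.isFinite_pow (K := S.residueField s) (A := G) n hn, AbDeg57.flat_pow (K := S.residueField s) (A := G) n hn,
    AbDeg57.surjective_pow (K := S.residueField s) (A := G) n hn⟩

end Groth.Agent.IsogFib7
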